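import Cfsg.Agent.Lib.TitsSquare.Data

/-!
The checks behind the squares of a class of elements of order five in the Tits group.
-/

set_option autoImplicit false
set_option maxRecDepth 100000

namespace CfsgLib.TitsSquare

open CfsgLib.Twisted

/-- An element of order five, by its code. -/
noncomputable def classC (A : ℕ) : Bool :=
  mm (mm (mm A A) (mm A A)) A == oneC && A % 2 ^ 2704 != oneC

/-- The code of a product of the generators. -/
noncomputable def elemC (e : List ℕ) : ℕ := prodC (e.map fun j => genC.getD j 0)

/-- The code of an entry of the table. -/
def tabC (i : ℕ) : ℕ := (tCode.getD (i / 16) []).getD (i % 16) 0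

/-- The word of an entry of the table. -/
def tabW (i : ℕ) : List ℕ := (tWord.getD (i / 16) []).getD (i % 16) []

/-- The code of the representative of a cell. -/
noncomputable def cellC (w : ℕ) : ℕ :=
  prodC ((cellWord.getD w []).map fun s => cCode.getD s 0)

/-- The check of a leaf: the index 255 stands for the identity. -/
noncomputable def leafOK (A i : ℕ) : Bool :=
  (decide (i < 251) && classC (mm (tabC i) A)) || (i == 255 && A == oneC)

/-- The check of a certificate, over the last `f` generators of the fixed part of `U`. -/
noncomputable def chk : ℕ → ℕ → ℕ → ℕ → Bool
  | 0, A, cert, off => leafOK A ((cert >>> (8 * off)) &&& 255)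
  | f + 1, A, cert, off =>
    chk f A cert off && chk f (mm A (uCode.getD (11 - f) 0)) cert (off + 2 ^ f)

/-- The tables of codes fit the words. -/
noncomputable def wordsOK : Bool :=
  ((List.range 26).all fun j => (genW.getD j []).all (fun r => decide (r < 48)) &&
      wordC (genW.getD j []) == genC.getD j 0) &&
    ((List.range 2).all fun s => (cWord.getD s []).all (fun r => decide (r < 48)) &&
      wordC (cWord.getD s []) == cCode.getD s 0) &&
    ((List.range 12).all fun k => (gWord k).all (fun r => decide (r < 48)) &&
      wordC (gWord k) == uCode.getD k 0)

theorem words_ok : wordsOK = true := by decide +kernel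

/-- The shape of the generators. -/
def genShapeOK : Bool :=
  ((List.range 11).all fun j => genW.getD j [] == gWord (j + 1)) &&
    genW.getD 11 [] == cWord.getD 0 [] && genW.getD 12 [] == cWord.getD 1 [] &&
    ((List.range 13).all fun j => genW.getD (j + 13) [] == (genW.getD j []).reverse) &&
    (xWord ++ bWord ++ sylConj.flatten).all fun j => decide (j < 26)

theorem genShape_ok : genShapeOK = true := by decide +kernel

/-- The entries of the table lie in the class. -/
noncomputable def tabOK : Bool :=
  (List.range 251).all fun i => (tabW i).all (fun j => decide (j < 26)) &&
    elemC (tabW i) == tabC i && classC (tabC i)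

theorem tab_ok : tabOK = true := by decide +kernel

/-- The cells are closed under the representatives of the orbits. -/
noncomputable def cellsOK : Bool :=
  cellWord.length == 16 && (cellWord.all fun l => l.all fun s => decide (s < 2)) &&
    cellC 0 == oneC &&
    (List.range 16).all fun w => (List.range 2).all fun s =>
      let v := (cellStep.getD w []).getD s 16
      decide (v < 16) && mm (cellC w) (cCode.getD s 0) == cellC v

theorem cells_ok : cellsOK = true := by decide +kernel

/-- The code of a product of powers of the two commuting elements. -/
noncomputable def powC (i j : ℕ) : ℕ :=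
  prodC (List.replicate i (elemC xWord) ++ List.replicate j (elemC bWord))

/-- Two commuting elements of the class whose products of powers are conjugate to the first. -/
noncomputable def sylOK : Bool :=
  classC (elemC xWord) && classC (elemC bWord) &&
    mm (elemC xWord) (elemC bWord) == mm (elemC bWord) (elemC xWord) &&
    ((List.range 5).all fun i => elemC bWord % 2 ^ 2704 != powC i 0 % 2 ^ 2704) &&
    (List.range 5).all fun i => (List.range 5).all fun j => (i == 0 && j == 0) ||
      mm (elemC (sylConj.getD (5 * i + j) [])) (elemC xWord) ==
        mm (powC i j) (elemC (sylConj.getD (5 * i + j) []))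

theorem syl_ok : sylOK = true := by decide +kernel

end CfsgLib.TitsSquare
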