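import Cfsg.Agent.Lib.TitsSquare.Check
import Cfsg.Agent.Lib.TwistedStr.TitsParabolic
import Cfsg.Agent.Lib.TwistedStr.TitsInvolution

/-!
The cells of ²F₄(2) in codes, and the elements of order five of its derived group.
-/

set_option autoImplicit false
set_option maxRecDepth 100000
set_option maxHeartbeats 400000

namespace CfsgLib.TitsSquare

open Cfsg.Lie CfsgLib.ChevStr CfsgLib.RankThree CfsgLib.Twisted
open scoped MatrixGroups commutatorElement

/-- The ambient group. -/
abbrev Amb : Type := GL chevF4.Idx (ZMod 2)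

theorem enc_word {w : List ℕ} {A : ℕ} (h : (w.all fun r => decide (r < 48)) = true)
    (e : wordC w = A) : Enc (W C2 w) A :=
  e ▸ enc_W w fun r hr => of_decide_eq_true (List.all_eq_true.1 h r hr)

/-- The element of a generator of the derived group. -/
noncomputable def genU (j : ℕ) : Amb := W C2 (genW.getD j [])

/-- The representative of an orbit. -/
noncomputable def cU (s : ℕ) : Amb := W C2 (cWord.getD s [])

theorem genU_enc {j : ℕ} (hj : j < 26) : Enc (genU j) (genC.getD j 0) := by
  have h := words_ok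
  simp only [wordsOK, Bool.and_eq_true, List.all_eq_true (l := List.range 26), List.mem_range,
    beq_iff_eq] at h
  exact enc_word (h.1.1 j hj).1 (h.1.1 j hj).2

theorem cU_enc {s : ℕ} (hs : s < 2) : Enc (cU s) (cCode.getD s 0) := by
  have h := words_ok
  simp only [wordsOK, Bool.and_eq_true, List.all_eq_true (l := List.range 2), List.mem_range,
    beq_iff_eq] at h
  exact enc_word (h.1.2 s hs).1 (h.1.2 s hs).2

theorem gElt_enc {k : ℕ} (hk : k < 12) : Enc (gElt k) (uCode.getD k 0) := by
  have h := words_ok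
  simp only [wordsOK, Bool.and_eq_true, List.all_eq_true (l := List.range 12), List.mem_range,
    beq_iff_eq] at h
  exact enc_word (h.2 k hk).1 (h.2 k hk).2

/-- A word of two or more root elements with all arguments one as a product of root elements. -/
theorem W_eq_wordGL (w : List ℕ) : W C2 w = C2.wordGL (w.map fun r => (r, (1 : ZMod 2))) := rfl

theorem negPair_mem : W C2 [14, 23] ∈ G2F4 := by
  refine C2.wordGL_mem_gen (Or.inl ⟨1, Or.inr ?_⟩)
  simp [f4PairWord, f4m1, f4m4]

theorem negClass_mem : W C2 [20, 22, 19] ∈ G2F4 := by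
  have h : (b2ClassWord 1 f4ma f4mb f4mab f4maab (1 : ZMod 2) 0) ∈ f4Words (ZMod 2) 1 :=
    Or.inr ⟨1, 0, Or.inr rfl⟩
  have h' := C2.wordGL_mem_gen h
  have e : C2.wordGL (b2ClassWord 1 f4ma f4mb f4mab f4maab (1 : ZMod 2) 0) = W C2 [20, 22, 19] := by
    simp only [b2ClassWord, f4ma, f4mb, f4mab, f4maab, one_pow, add_zero, W_eq_wordGL,
      List.map_cons, List.map_nil, C2.wordGL_cons, C2.wordGL_nil, mul_one, Nat.mul_one]
    rw [zero_pow two_ne_zero, C2.xGL_zero, mul_one]
  rwa [e] at h'

theorem cU_mem_D2 : ∀ s, s < 2 → cU s ∈ D2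
  | 0, _ => by
    have e : cU 0 = W C2 [14, 23] * gElt 1 * (W C2 [14, 23])⁻¹ := by
      rw [← W_reverse, gElt, ← W_append, ← W_append]
      rfl
    exact e ▸ D2_conj negPair_mem _ (S2_le_D2 (gElt_mem_tail le_rfl (by norm_num)))
  | 1, _ => by
    have e : cU 1 = W C2 [20, 22, 19] * gElt 4 * (W C2 [20, 22, 19])⁻¹ := by
      rw [← W_reverse, gElt, ← W_append, ← W_append]
      rfl
    exact e ▸ D2_conj negClass_mem _ (S2_le_D2 (gElt_mem_tail (by norm_num) (by norm_num)))
  | _ + 2, h => by omega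

theorem genU_mem {j : ℕ} (hj : j < 26) : genU j ∈ D2 := by
  have h := genShape_ok
  simp only [genShapeOK, Bool.and_eq_true, List.all_eq_true, List.mem_range, beq_iff_eq] at h
  obtain ⟨⟨⟨⟨h1, h11⟩, h12⟩, hr⟩, -⟩ := h
  have fwd : ∀ j < 13, genU j ∈ D2 := fun j hj => by
    by_cases h : j < 11
    · rw [genU, h1 j h]
      exact S2_le_D2 (gElt_mem_tail (Nat.le_add_left 1 j) (by omega))
    · by_cases h' : j = 11
      · rw [genU, h', h11]; exact cU_mem_D2 0 (by norm_num)
      · obtain rfl : j = 12 := by omega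
        rw [genU, h12]; exact cU_mem_D2 1 (by norm_num)
  by_cases h : j < 13
  · exact fwd j h
  · obtain ⟨i, rfl⟩ : ∃ i, j = i + 13 := ⟨j - 13, by omega⟩
    rw [genU, hr i (by omega), W_reverse]
    exact inv_mem (fwd i (by omega))

/-- A product of the generators. -/
noncomputable def elemU (e : List ℕ) : Amb := (e.map genU).prod

theorem prod_mem_D2 {f : ℕ → Amb} : ∀ {e : List ℕ}, (∀ j ∈ e, f j ∈ D2) → (e.map f).prod ∈ D2
  | [], _ => one_mem D2
  | j :: e, h => by
    rw [List.map_cons, List.prod_cons]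
    exact D2.mul_mem (h j List.mem_cons_self)
      (prod_mem_D2 fun i hi => h i (List.mem_cons_of_mem _ hi))

theorem elemU_mem {e : List ℕ} (h : ∀ j ∈ e, j < 26) : elemU e ∈ D2 :=
  prod_mem_D2 fun j hj => genU_mem (h j hj)

theorem elemU_enc {e : List ℕ} (h : ∀ j ∈ e, j < 26) : Enc (elemU e) (elemC e) :=
  enc_prod (f := genU) e fun j hj => genU_enc (h j hj)

/-! ### The representatives of the two orbits -/

theorem nS_W (j : Fin chevF4.rank) : C2.nS j =
    W C2 [chevF4.simple j.val, chevF4.neg (chevF4.simple j.val), chevF4.simple j.val] := by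
  simp [ChevCore.nS, ChevCore.nGL, ChevalleyDatum.nWord, W_eq_wordGL, CharTwo.neg_eq]

/-- Words for the products of the monomial elements. -/
def nsWord (i : Fin 2) : List ℕ :=
  (f4TwistWord i).flatMap fun j =>
    [chevF4.simple j.val, chevF4.neg (chevF4.simple j.val), chevF4.simple j.val]

/-- The two expressions of a representative agree. -/
noncomputable def nsOK : Bool :=
  (List.finRange 2).all fun i => (nsWord i).all (fun r => decide (r < 48)) &&
    wordC (nsWord i) == cCode.getD i.val 0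

theorem ns_ok : nsOK = true := by decide +kernel

theorem moves_flat : ∀ L : List (Fin chevF4.rank),
    W C2 (L.flatMap fun j => [chevF4.simple j.val, chevF4.neg (chevF4.simple j.val),
      chevF4.simple j.val]) ∈ chevF4.monomialSubgroup (ZMod 2) ∧
    C2.Moves (W C2 (L.flatMap fun j => [chevF4.simple j.val, chevF4.neg (chevF4.simple j.val),
      chevF4.simple j.val])) (reflDataF4.wordPerm L)
  | [] => by
    refine ⟨by rw [List.flatMap_nil, W_nil]; exact one_mem _, ?_⟩
    have h := ChevCore.Moves.mul C2 (ChevCore.Moves.inv C2 (C2.nS_mem_monomial ⟨0, by decide⟩)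
      (ChevCore.Acts.moves C2 (C2.acts_nS ⟨0, by decide⟩)))
      (ChevCore.Acts.moves C2 (C2.acts_nS ⟨0, by decide⟩))
    rw [inv_mul_cancel, inv_mul_cancel] at h
    rw [List.flatMap_nil, W_nil]
    exact h
  | j :: L => by
    obtain ⟨h1, h2⟩ := moves_flat L
    rw [List.flatMap_cons, W_append, ← nS_W]
    refine ⟨mul_mem (C2.nS_mem_monomial j) h1, ?_⟩
    have h := ChevCore.Moves.mul C2 (ChevCore.Acts.moves C2 (C2.acts_nS j)) h2
    exact h

theorem cU_facts (i : Fin 2) : cU i.val ∈ chevF4.monomialSubgroup (ZMod 2) ∧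
    C2.Moves (cU i.val) (reflDataF4.wordPerm (f4TwistWord i)) := by
  have h := ns_ok
  simp only [nsOK, List.all_eq_true (l := List.finRange 2), Bool.and_eq_true, beq_iff_eq] at h
  obtain ⟨h1, h2⟩ := h i (List.mem_finRange i)
  have e : cU i.val = W C2 (nsWord i) := (cU_enc i.isLt).ext (enc_word h1 h2) rfl
  rw [e]
  exact moves_flat _

theorem s_eq (i : Fin 2) : gens2.s i = cU i.val := by
  obtain ⟨hn, hm⟩ := cU_facts i
  have hd : gens2.s i * (cU i.val)⁻¹ ∈ chevF4.diagonalSubgroup (ZMod 2) := by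
    refine C2.mem_diagonal_of_moves_one (mul_mem (gens2.s_mem_N i) (inv_mem hn)) ?_
    have := ChevCore.Moves.mul C2 (s2_moves i) (ChevCore.Moves.inv C2 hn hm)
    rwa [mul_inv_cancel] at this
  exact mul_inv_eq_one.1 ((Subgroup.eq_bot_iff_forall _).1 torus2_eq_bot _
    (Subgroup.mem_inf.2 ⟨hd, mul_mem (gens2.s_mem i) (inv_mem (D2_le (cU_mem_D2 _ i.isLt)))⟩))

/-- The representative of a cell. -/
noncomputable def cellU (w : ℕ) : Amb := ((cellWord.getD w []).map cU).prod

theorem getD_all {p : ℕ → Bool} : ∀ {L : List (List ℕ)}, (L.all fun l => l.all p) = true →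
    ∀ w, ∀ s ∈ L.getD w [], p s = true
  | [], _, w, s, hs => by simp at hs
  | l :: L, h, 0, s, hs => by
    rw [List.all_cons, Bool.and_eq_true] at h
    exact List.all_eq_true.1 h.1 s hs
  | l :: L, h, w + 1, s, hs => by
    rw [List.all_cons, Bool.and_eq_true] at h
    exact getD_all h.2 w s hs

theorem cellWord_lt (w : ℕ) : ∀ s ∈ cellWord.getD w [], s < 2 := by
  have h : (cellWord.all fun l => l.all fun s => decide (s < 2)) = true := by decide +kernel
  exact fun s hs => of_decide_eq_true (getD_all h w s hs)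

theorem cellU_mem (w : ℕ) : cellU w ∈ D2 :=
  prod_mem_D2 fun s hs => cU_mem_D2 s (cellWord_lt w s hs)

theorem cellU_enc (w : ℕ) : Enc (cellU w) (cellC w) :=
  enc_prod (f := cU) _ fun s hs => cU_enc (cellWord_lt w s hs)

theorem closure_cells {n : Amb} (hn : n ∈ Subgroup.closure (Set.range gens2.s)) :
    ∃ w < 16, n = cellU w := by
  have h := cells_ok
  simp only [cellsOK, Bool.and_eq_true, List.all_eq_true (l := List.range 16),
    List.all_eq_true (l := List.range 2), List.mem_range, beq_iff_eq, decide_eq_true_eq] at h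
  obtain ⟨⟨-, h0⟩, hstep⟩ := h
  have step : ∀ w < 16, ∀ i : Fin 2, ∃ v < 16, cellU w * gens2.s i = cellU v := fun w hw i => by
    obtain ⟨hv, he⟩ := hstep w hw i.val i.isLt
    exact ⟨_, hv, by rw [s_eq]; exact ((cellU_enc w).mul (cU_enc i.isLt)).ext (cellU_enc _) he⟩
  have hinv : ∀ i : Fin 2, (gens2.s i)⁻¹ = gens2.s i := fun i => by
    calc (gens2.s i)⁻¹ = (gens2.s i)⁻¹ * (gens2.s i * gens2.s i) := by rw [s2_sq, mul_one]
      _ = gens2.s i := inv_mul_cancel_left _ _
  induction hn using Subgroup.closure_induction_right with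
  | one => exact ⟨0, by norm_num, enc_one.ext (cellU_enc 0) h0.symm⟩
  | mul_right x _ y hy ih =>
    obtain ⟨w, hw, rfl⟩ := ih
    obtain ⟨i, rfl⟩ := hy
    exact step w hw i
  | mul_inv_cancel x _ y hy ih =>
    obtain ⟨w, hw, rfl⟩ := ih
    obtain ⟨i, rfl⟩ := hy
    rw [hinv i]
    exact step w hw i

/-- Every element of the derived group is conjugate to one in a cell times the complement. -/
theorem exists_cell_conj {g : Amb} (hg : g ∈ D2) :
    ∃ u ∈ G2F4, ∃ w < 16, ∃ b ∈ tailGroup 1, g = u * (cellU w * b) * u⁻¹ := by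
  obtain ⟨u, hu, n, hn, v, hv, -, e⟩ := gens2.twist.nf (g := g) (D2_le hg)
  have hn' : n ∈ Subgroup.closure (Set.range gens2.s) := by
    have hle : gens2.twist.N1 ≤ Subgroup.closure (Set.range gens2.s) := by
      rw [← gens2.reflections.N1_eq]
      exact sup_le le_rfl (le_of_eq_of_le torus2_eq_bot bot_le)
    exact hle hn
  obtain ⟨w, hw, rfl⟩ := closure_cells hn'
  have hu' : u ∈ U2 := hu
  have hv' : v ∈ U2 := hv
  have huG : u ∈ G2F4 := (Subgroup.mem_inf.1 hu').2
  refine ⟨u, huG, w, hw, v * u, ?_, by rw [e]; group⟩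
  have hbU : v * u ∈ U2 := mul_mem hv' hu'
  have hbD : v * u ∈ D2 := by
    have h1 := D2_conj (inv_mem huG) g hg
    rw [show u⁻¹ * g * u⁻¹⁻¹ = cellU w * (v * u) by rw [e]; group] at h1
    exact (D2.mul_mem_cancel_left (cellU_mem w)).1 h1
  rw [← tail_zero_eq] at hbU
  rcases tail_step (by norm_num : (0 : ℕ) < 12) hbU with h | h
  · exact h
  exfalso
  have ht : t2 ∈ D2 := by
    have := mul_mem (S2_le_D2 h) (inv_mem hbD)
    rwa [show gElt 0 * (v * u) * (v * u)⁻¹ = t2 by rw [t2]; group] at this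
  rw [← map_derived.1, Subgroup.mem_map] at ht
  obtain ⟨y, hy, hye⟩ := ht
  apply t2_not_mem_derived
  convert hy
  exact Subtype.ext hye.symm

end CfsgLib.TitsSquare
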