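import Cfsg.Agent.Lib.TitsSquare.Group
import Cfsg.Agent.Lib.TitsSquare.Cert0
import Cfsg.Agent.Lib.TitsSquare.Cert1
import Cfsg.Agent.Lib.TitsSquare.Cert2
import Cfsg.Agent.Lib.TitsSquare.Cert3
import Mathlib.GroupTheory.Sylow

/-!
Every non-trivial element of the Tits group is a product of two conjugates of one element of order
five.
-/

set_option autoImplicit false
set_option maxRecDepth 100000
set_option maxHeartbeats 800000

namespace CfsgLib.TitsSquare

open Cfsg.Lie CfsgLib.ChevStr CfsgLib.RankThree CfsgLib.Twisted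
open scoped MatrixGroups commutatorElement

/-- The elements of order five of the derived group. -/
def InC (g : Amb) : Prop := g ∈ D2 ∧ g ^ 5 = 1 ∧ g ≠ 1

/-- Trivial, or a product of two elements of order five. -/
def Sq (g : Amb) : Prop := g ∈ D2 → g = 1 ∨ ∃ y z, InC y ∧ InC z ∧ g = y * z

theorem InC.inv {g : Amb} (h : InC g) : InC g⁻¹ :=
  ⟨D2.inv_mem h.1, by rw [inv_pow, h.2.1, inv_one], fun e => h.2.2 (inv_eq_one.1 e)⟩

theorem InC.conj {g a : Amb} (h : InC g) (ha : a ∈ G2F4) : InC (a * g * a⁻¹) :=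
  ⟨D2_conj ha g h.1, by rw [conj_pow, h.2.1, mul_one, mul_inv_cancel],
    fun e => h.2.2 (conj_eq_one_iff.1 e)⟩

theorem class_enc {g : Amb} {A : ℕ} (hA : Enc g A) (hg : g ∈ D2) (h : classC A = true) :
    InC g := by
  simp only [classC, Bool.and_eq_true, beq_iff_eq, bne_iff_ne] at h
  refine ⟨hg, ?_, hA.ne_one h.2⟩
  have h2 := hA.mul hA
  have e := ((h2.mul h2).mul hA).ext enc_one h.1
  rw [show (5 : ℕ) = 2 + 2 + 1 from rfl, pow_add, pow_add, pow_two, pow_one]
  exact e

theorem lt26 {e : List ℕ} (h : (e.all fun j => decide (j < 26)) = true) : ∀ j ∈ e, j < 26 :=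
  fun j hj => of_decide_eq_true (List.all_eq_true.1 h j hj)

theorem table_mem {i : ℕ} (hi : i < 251) : ∃ t, InC t ∧ Enc t (tabC i) := by
  have h := tab_ok
  simp only [tabOK, Bool.and_eq_true, List.all_eq_true (l := List.range 251), List.mem_range,
    beq_iff_eq] at h
  obtain ⟨⟨h1, h2⟩, h3⟩ := h i hi
  have he : Enc (elemU (tabW i)) (tabC i) := h2 ▸ elemU_enc (lt26 h1)
  exact ⟨_, class_enc he (elemU_mem (lt26 h1)) h3, he⟩

theorem leaf_sq {g : Amb} {A i : ℕ} (hA : Enc g A) (h : leafOK A i = true) : Sq g := by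
  intro hg
  simp only [leafOK, Bool.or_eq_true, Bool.and_eq_true, decide_eq_true_eq, beq_iff_eq] at h
  rcases h with ⟨hi, hc⟩ | ⟨-, he⟩
  · obtain ⟨t, ht, hte⟩ := table_mem hi
    exact Or.inr ⟨t⁻¹, t * g, ht.inv, class_enc (hte.mul hA) (D2.mul_mem ht.1 hg) hc,
      (inv_mul_cancel_left t g).symm⟩
  · exact Or.inl (hA.ext enc_one he)

theorem chk_sq : ∀ (f : ℕ), f ≤ 11 → ∀ (a : Amb) (A cert off : ℕ), Enc a A →
    chk f A cert off = true → ∀ m ∈ tailGroup (12 - f), Sq (a * m)
  | 0, _, a, A, cert, off, hA, h, m, hm => by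
    have hm1 : m = 1 := by
      have hb : tailGroup (12 - 0) ≤ ⊥ := tail_le le_rfl fun j h1 h2 => by omega
      exact Subgroup.mem_bot.1 (hb hm)
    rw [hm1, mul_one]
    rw [chk] at h
    exact leaf_sq hA h
  | f + 1, hf, a, A, cert, off, hA, h, m, hm => by
    simp only [chk, Bool.and_eq_true] at h
    have e : 12 - f = (11 - f) + 1 := by omega
    have hk : 11 - f < 12 := by omega
    have hm' : m ∈ tailGroup (11 - f) := by
      rwa [show 12 - (f + 1) = 11 - f by omega] at hm
    rcases tail_step hk hm' with hy | hy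
    · exact chk_sq f (by omega) a A cert off hA h.1 m (e ▸ hy)
    · have h2 := chk_sq f (by omega) (a * gElt (11 - f)) _ cert _ (hA.mul (gElt_enc hk)) h.2
        ((gElt (11 - f) * gElt (11 - f))⁻¹ * (gElt (11 - f) * m))
        (e ▸ mul_mem (inv_mem (gElt_sq hk)) hy)
      have hg : a * gElt (11 - f) * ((gElt (11 - f) * gElt (11 - f))⁻¹ * (gElt (11 - f) * m)) =
          a * m := by group
      rwa [hg] at h2

theorem cell_sq {w : ℕ} (hw : w < 16) {b : Amb} (hb : b ∈ tailGroup 1) : Sq (cellU w * b) := by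
  have key : ∀ cert, chk 11 (cellC w) cert 0 = true → Sq (cellU w * b) := fun cert h =>
    chk_sq 11 le_rfl _ _ cert 0 (cellU_enc w) h b hb
  interval_cases w
  exacts [key _ chk0, key _ chk1, key _ chk2, key _ chk3, key _ chk4, key _ chk5, key _ chk6,
    key _ chk7, key _ chk8, key _ chk9, key _ chk10, key _ chk11, key _ chk12, key _ chk13,
    key _ chk14, key _ chk15]

theorem D2_sq {g : Amb} (hg : g ∈ D2) (h1 : g ≠ 1) : ∃ y z, InC y ∧ InC z ∧ g = y * z := by
  obtain ⟨u, hu, w, hw, b, hb, rfl⟩ := exists_cell_conj hg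
  rcases cell_sq hw hb (D2.mul_mem (cellU_mem w) (S2_le_D2 hb)) with e | ⟨y, z, hy, hz, e⟩
  · exact absurd (by rw [e, mul_one, mul_inv_cancel]) h1
  · exact ⟨_, _, hy.conj hu, hz.conj hu, by rw [e]; group⟩

attribute [local irreducible] elemU elemC mm prodC

/-- The two commuting elements. -/
noncomputable def xU : Amb := elemU xWord

/-- The second of the two. -/
noncomputable def bU : Amb := elemU bWord

theorem word_lt : (∀ j ∈ xWord, j < 26) ∧ (∀ j ∈ bWord, j < 26) ∧
    ∀ k, ∀ j ∈ sylConj.getD k [], j < 26 := by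
  have h : (xWord.all fun j => decide (j < 26)) = true ∧
      (bWord.all fun j => decide (j < 26)) = true ∧
      (sylConj.all fun l => l.all fun j => decide (j < 26)) = true := by decide +kernel
  exact ⟨lt26 h.1, lt26 h.2.1, fun k j hj => of_decide_eq_true (getD_all h.2.2 k j hj)⟩

theorem xU_enc : Enc xU (elemC xWord) := elemU_enc word_lt.1

theorem bU_enc : Enc bU (elemC bWord) := elemU_enc word_lt.2.1

theorem pow_enc (i j : ℕ) : Enc (xU ^ i * bU ^ j) (powC i j) := by
  have hrep : ∀ (n : ℕ) (g : Amb) (A : ℕ) (M : List ℕ) (h : Amb), Enc g A → Enc h (prodC M) →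
      Enc (g ^ n * h) (prodC (List.replicate n A ++ M)) := by
    intro n g A M h hg hh
    induction n with
    | zero =>
      rw [pow_zero, one_mul, List.replicate_zero, List.nil_append]
      exact hh
    | succ n ih =>
      rw [pow_succ', mul_assoc, List.replicate_succ, List.cons_append, prodC_cons]
      exact hg.mul ih
  have h0 : Enc (bU ^ j) (prodC (List.replicate j (elemC bWord))) := by
    have h := hrep j bU (elemC bWord) [] 1 bU_enc (prodC_nil ▸ enc_one)
    rwa [mul_one, List.append_nil] at h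
  exact hrep i xU (elemC xWord) _ _ xU_enc h0

theorem xU_class : InC xU := by
  have h := syl_ok
  simp only [sylOK, Bool.and_eq_true] at h
  exact class_enc xU_enc (elemU_mem word_lt.1) h.1.1.1.1

theorem bU_class : InC bU := by
  have h := syl_ok
  simp only [sylOK, Bool.and_eq_true] at h
  exact class_enc bU_enc (elemU_mem word_lt.2.1) h.1.1.1.2

theorem comm_xb : xU * bU = bU * xU := by
  have h := syl_ok
  simp only [sylOK, Bool.and_eq_true, beq_iff_eq] at h
  exact (xU_enc.mul bU_enc).ext (bU_enc.mul xU_enc) h.1.1.2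

theorem bU_ne_pow {i : ℕ} (hi : i < 5) : bU ≠ xU ^ i := fun e => by
  have h := syl_ok
  simp only [sylOK, Bool.and_eq_true, List.all_eq_true (l := List.range 5), List.mem_range,
    bne_iff_ne] at h
  have h1 := pow_enc i 0
  rw [pow_zero, mul_one, ← e] at h1
  exact h.1.2 i hi (bU_enc.mod_eq h1)

theorem syl_conj {i j : ℕ} (hi : i < 5) (hj : j < 5) :
    (i = 0 ∧ j = 0) ∨ ∃ c ∈ D2, c * xU = xU ^ i * bU ^ j * c := by
  have h := syl_ok
  simp only [sylOK, Bool.and_eq_true, List.all_eq_true (l := List.range 5), List.mem_range,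
    Bool.or_eq_true, beq_iff_eq] at h
  rcases h.2 i hi j hj with h0 | e
  · exact Or.inl h0
  · exact Or.inr ⟨_, elemU_mem (word_lt.2.2 _),
      ((elemU_enc (word_lt.2.2 _)).mul xU_enc).ext ((pow_enc i j).mul (elemU_enc (word_lt.2.2 _))) e⟩

/-- The inclusion of the Tits group. -/
noncomputable def incl : TitsGroup →* Amb :=
  G2F4.subtype.comp (commutator ↥G2F4).subtype

theorem incl_inj : Function.Injective incl :=
  G2F4.subtype_injective.comp (commutator ↥G2F4).subtype_injective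

theorem incl_mem (g : TitsGroup) : incl g ∈ D2 :=
  map_derived.1 ▸ Subgroup.mem_map_of_mem _ g.2

theorem incl_surj {g : Amb} (hg : g ∈ D2) : ∃ t : TitsGroup, incl t = g := by
  rw [← map_derived.1, Subgroup.mem_map] at hg
  obtain ⟨y, hy, rfl⟩ := hg
  exact ⟨⟨y, hy⟩, rfl⟩

/-- With a Sylow subgroup generated by two commuting elements whose products of powers are
conjugate to the first, the elements of order five form one class. -/
theorem one_class {T : Type*} [Group T] [Finite T] (hT : Nat.card T = 17971200) {x b : T}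
    (hx : orderOf x = 5) (hb : orderOf b = 5) (hxb : Commute x b)
    (hne : ∀ i < 5, b ≠ x ^ i)
    (hconj : ∀ i < 5, ∀ j < 5, (i = 0 ∧ j = 0) ∨ ∃ c, c * x = x ^ i * b ^ j * c)
    {t : T} (ht : orderOf t = 5) : ∃ a, t = a * x * a⁻¹ := by
  classical
  have : Fact (Nat.Prime 5) := ⟨by norm_num⟩
  set A := Subgroup.zpowers x
  set B := Subgroup.zpowers b
  have hA : Nat.card A = 5 := by rw [Nat.card_zpowers, hx]
  have hB : Nat.card B = 5 := by rw [Nat.card_zpowers, hb]
  have hAB : A ≤ Subgroup.normalizer (B : Set T) := by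
    refine Subgroup.zpowers_le.2 (Subgroup.mem_normalizer_iff.2 fun y => ?_)
    constructor
    · intro hy
      obtain ⟨n, rfl⟩ := Subgroup.mem_zpowers_iff.1 hy
      rw [(hxb.zpow_right n).eq, mul_inv_cancel_right]
      exact Subgroup.zpow_mem_zpowers _ _
    · intro hy
      obtain ⟨n, hn⟩ := Subgroup.mem_zpowers_iff.1 hy
      have e : y = x⁻¹ * b ^ n * x := by rw [hn]; group
      rw [e, mul_assoc, ← (hxb.zpow_right n).eq, inv_mul_cancel_left]
      exact Subgroup.zpow_mem_zpowers _ _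
  have hmul : ∀ y, y ∈ A ⊔ B ↔ ∃ i < 5, ∃ j < 5, y = x ^ i * b ^ j := by
    intro y
    rw [← SetLike.mem_coe, Subgroup.coe_mul_of_left_le_normalizer_right A B hAB]
    constructor
    · rintro ⟨p, hp, q, hq, rfl⟩
      obtain ⟨i, hi, rfl⟩ := Finset.mem_image.1 (mem_zpowers_iff_mem_range_orderOf.1 hp)
      obtain ⟨j, hj, rfl⟩ := Finset.mem_image.1 (mem_zpowers_iff_mem_range_orderOf.1 hq)
      rw [Finset.mem_range] at hi hj
      exact ⟨i, hx ▸ hi, j, hb ▸ hj, rfl⟩
    · rintro ⟨i, -, j, -, rfl⟩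
      exact Set.mul_mem_mul (Subgroup.npow_mem_zpowers x i) (Subgroup.npow_mem_zpowers b j)
  have hdisj : A ⊓ B = ⊥ := by
    by_contra h
    have hle : Nat.card (A ⊓ B : Subgroup T) ∣ Nat.card B :=
      Subgroup.card_dvd_of_le inf_le_right
    rw [hB, Nat.dvd_prime (by norm_num)] at hle
    rcases hle with h1 | h1
    · exact h (Subgroup.card_eq_one.1 h1)
    · have e := Subgroup.eq_of_le_of_card_ge (inf_le_right : A ⊓ B ≤ B) (by rw [hB, h1])
      have hbA : b ∈ A :=
        (Subgroup.mem_inf.1 (e.symm ▸ Subgroup.mem_zpowers b : b ∈ A ⊓ B)).1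
      obtain ⟨i, hi, e⟩ := Finset.mem_image.1 (mem_zpowers_iff_mem_range_orderOf.1 hbA)
      exact hne i (hx ▸ Finset.mem_range.1 hi) e.symm
  have hcard : Nat.card (A ⊔ B : Subgroup T) = 25 := by
    have hf : Function.Bijective fun p : A × B =>
        (⟨p.1 * p.2, Subgroup.mul_mem_sup p.1.2 p.2.2⟩ : (A ⊔ B : Subgroup T)) := by
      refine ⟨fun p q e => ?_, fun y => ?_⟩
      · exact Subgroup.mul_injective_of_disjoint (disjoint_iff.2 hdisj) (congrArg Subtype.val e)
      · obtain ⟨i, -, j, -, e⟩ := (hmul y).1 y.2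
        exact ⟨(⟨_, Subgroup.npow_mem_zpowers x i⟩, ⟨_, Subgroup.npow_mem_zpowers b j⟩),
          Subtype.ext e.symm⟩
    rw [← Nat.card_eq_of_bijective _ hf, Nat.card_prod, hA, hB]
  have hfact : (17971200 : ℕ).factorization 5 = 2 := by
    rw [show (17971200 : ℕ) = 5 ^ 2 * 718848 by norm_num,
      Nat.factorization_mul (by norm_num) (by norm_num),
      Nat.Prime.factorization_pow (by norm_num)]
    simp [Nat.factorization_eq_zero_of_not_dvd (show ¬ 5 ∣ 718848 by norm_num)]
  let S : Sylow 5 T := Sylow.ofCard (A ⊔ B) (by rw [hT, hfact, hcard]; norm_num)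
  have hS : (S : Subgroup T) = A ⊔ B := rfl
  obtain ⟨Q, hQ⟩ :=
    (IsPGroup.of_card (p := 5) (n := 1) (by rw [Nat.card_zpowers, ht, pow_one] :
      Nat.card (Subgroup.zpowers t) = 5 ^ 1)).exists_le_sylow
  obtain ⟨a, ha⟩ := MulAction.exists_smul_eq T S Q
  have ht2 : t ∈ (Q : Subgroup _) := hQ (Subgroup.mem_zpowers t)
  rw [← ha, Sylow.coe_subgroup_smul, Subgroup.mem_pointwise_smul_iff_inv_smul_mem, hS, hmul] at ht2
  obtain ⟨i, hi, j, hj, e⟩ := ht2
  rw [← map_inv MulAut.conj, MulAut.smul_def, MulAut.conj_apply, inv_inv] at e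
  rcases hconj i hi j hj with ⟨rfl, rfl⟩ | ⟨c, hc⟩
  · exfalso
    rw [pow_zero, pow_zero, mul_one] at e
    have h1 : t = 1 := by rw [show t = a * (a⁻¹ * t * a) * a⁻¹ by group, e]; group
    rw [h1, orderOf_one] at ht
    norm_num at ht
  · refine ⟨a * c, ?_⟩
    calc t = a * (a⁻¹ * t * a) * a⁻¹ := by group
      _ = a * (x ^ i * b ^ j * c * c⁻¹) * a⁻¹ := by rw [e, mul_inv_cancel_right]
      _ = _ := by rw [← hc]; group

theorem order_five {y : TitsGroup} (h : InC (incl y)) : orderOf y = 5 := by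
  have : Fact (Nat.Prime 5) := ⟨by norm_num⟩
  refine orderOf_eq_prime (incl_inj ?_) fun e => h.2.2 ?_
  · rw [map_pow, map_one]; exact h.2.1
  · rw [e, map_one]

theorem cover_aux (x b : TitsGroup) (hx : incl x = xU) (hb : incl b = bU) {y : Amb} (hy : InC y) :
    ∃ a : TitsGroup, y = incl (a * x * a⁻¹) := by
  obtain ⟨t, rfl⟩ := incl_surj hy.1
  have : Finite TitsGroup := Nat.finite_of_card_ne_zero (by rw [card_tits]; norm_num)
  obtain ⟨a, ha⟩ := one_class card_tits (order_five (hx.symm ▸ xU_class))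
    (order_five (hb.symm ▸ bU_class))
    (incl_inj (by rw [map_mul, map_mul, hx, hb, comm_xb]))
    (fun i hi e => bU_ne_pow hi (by rw [← hb, ← hx, ← map_pow, e]))
    (fun i hi j hj => (syl_conj hi hj).imp id fun ⟨c, hc, hce⟩ => by
      obtain ⟨c, rfl⟩ := incl_surj hc
      exact ⟨c, incl_inj (by rw [map_mul, map_mul, map_mul, map_pow, map_pow, hx, hb]; exact hce)⟩)
    (order_five hy)
  exact ⟨a, congrArg incl ha⟩

/-- The elements of order five of the Tits group form one class, and cover it. -/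
theorem cover : ∃ x : TitsGroup, Odd (orderOf x) ∧ ∀ g : TitsGroup, g ≠ 1 →
    ∃ u v : TitsGroup, g = (u * x * u⁻¹) * (v * x * v⁻¹) := by
  obtain ⟨x, hx⟩ := incl_surj xU_class.1
  obtain ⟨b, hb⟩ := incl_surj bU_class.1
  refine ⟨x, (order_five (hx.symm ▸ xU_class)).symm ▸ (by decide), fun g hg => ?_⟩
  obtain ⟨y, z, hy, hz, e⟩ := D2_sq (incl_mem g) fun h => hg (incl_inj (by rw [h, map_one]))
  obtain ⟨u, rfl⟩ := cover_aux x b hx hb hy
  obtain ⟨v, rfl⟩ := cover_aux x b hx hb hz
  exact ⟨u, v, incl_inj (by rw [e, map_mul incl (u * x * u⁻¹)])⟩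

end CfsgLib.TitsSquare
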